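import Groth.Agent.RelSpecLib.Local
import Mathlib.AlgebraicGeometry.Morphisms.Integral

/-!
# The algebra of invariant functions, its spectrum and the quotient map
-/

set_option autoImplicit false
set_option backward.isDefEq.respectTransparency false
set_option backward.isDefEq.respectTransparency.types false

universe u

open CategoryTheory CategoryTheory.Limits AlgebraicGeometry TopologicalSpace Opposite

noncomputable section

namespace Groth.Agent.GrpdLib.IntCoeq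

open RelSpec

/-- An `S`-pair `R ⇉ X` of affine schemes over `S`. -/
structure Pair (S : Scheme.{u}) where
  {X R : Scheme.{u}}
  f : X ⟶ S
  g : R ⟶ S
  [hf : IsIntegralHom f]
  [hg : IsIntegralHom g]
  p₁ : R ⟶ X
  p₂ : R ⟶ X
  h₁ : p₁ ≫ f = g
  h₂ : p₂ ≫ f = g

attribute [instance] Pair.hf Pair.hg

namespace Pair

variable {S : Scheme.{u}} (d : Pair S)

lemma le₁ (U : S.Opens) : d.g ⁻¹ᵁ U ≤ d.p₁ ⁻¹ᵁ d.f ⁻¹ᵁ U := by
  rw [← Scheme.Hom.comp_preimage, d.h₁]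
lemma le₂ (U : S.Opens) : d.g ⁻¹ᵁ U ≤ d.p₂ ⁻¹ᵁ d.f ⁻¹ᵁ U := by
  rw [← Scheme.Hom.comp_preimage, d.h₂]

def δ₁ (U : S.Opens) : Γ(d.X, d.f ⁻¹ᵁ U) ⟶ Γ(d.R, d.g ⁻¹ᵁ U) := d.p₁.appLE _ _ (d.le₁ U)
def δ₂ (U : S.Opens) : Γ(d.X, d.f ⁻¹ᵁ U) ⟶ Γ(d.R, d.g ⁻¹ᵁ U) := d.p₂.appLE _ _ (d.le₂ U)

abbrev resX {U V : S.Opens} (i : V ≤ U) : Γ(d.X, d.f ⁻¹ᵁ U) ⟶ Γ(d.X, d.f ⁻¹ᵁ V) :=
  d.X.presheaf.map (homOfLE (d.f.preimage_mono i)).op
abbrev resR {U V : S.Opens} (i : V ≤ U) : Γ(d.R, d.g ⁻¹ᵁ U) ⟶ Γ(d.R, d.g ⁻¹ᵁ V) :=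
  d.R.presheaf.map (homOfLE (d.g.preimage_mono i)).op

lemma δ₁_res {U V : S.Opens} (i : V ≤ U) (b : Γ(d.X, d.f ⁻¹ᵁ U)) :
    d.δ₁ V (d.resX i b) = d.resR i (d.δ₁ U b) := by
  rw [← CommRingCat.comp_apply, ← CommRingCat.comp_apply]
  simp [δ₁]

lemma δ₂_res {U V : S.Opens} (i : V ≤ U) (b : Γ(d.X, d.f ⁻¹ᵁ U)) :
    d.δ₂ V (d.resX i b) = d.resR i (d.δ₂ U b) := by
  rw [← CommRingCat.comp_apply, ← CommRingCat.comp_apply]
  simp [δ₂]

lemma δ₁_f (U : S.Opens) (a : Γ(S, U)) : d.δ₁ U (d.f.app U a) = d.g.app U a := by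
  rw [← CommRingCat.comp_apply, δ₁, ← Scheme.Hom.comp_appLE]
  simp [d.h₁, Scheme.Hom.app_eq_appLE]

lemma δ₂_f (U : S.Opens) (a : Γ(S, U)) : d.δ₂ U (d.f.app U a) = d.g.app U a := by
  rw [← CommRingCat.comp_apply, δ₂, ← Scheme.Hom.comp_appLE]
  simp [d.h₂, Scheme.Hom.app_eq_appLE]

/-- The invariant functions over an open of the base. -/
def inv (U : S.Opens) : Subring Γ(d.X, d.f ⁻¹ᵁ U) := (d.δ₁ U).hom.eqLocus (d.δ₂ U).hom

def invMap {U V : S.Opens} (i : V ≤ U) : d.inv U →+* d.inv V :=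
  ((d.resX i).hom.comp (d.inv U).subtype).codRestrict (d.inv V) fun b => by
    show d.δ₁ V (d.resX i b.1) = d.δ₂ V (d.resX i b.1)
    rw [d.δ₁_res, d.δ₂_res, show d.δ₁ U b.1 = d.δ₂ U b.1 from b.2]

def invPresheaf : TopCat.Presheaf CommRingCat.{u} S.carrier where
  obj U := CommRingCat.of (d.inv U.unop)
  map i := CommRingCat.ofHom (d.invMap i.unop.le)
  map_id U := by
    refine CommRingCat.hom_ext (RingHom.ext fun b => Subtype.ext ?_)
    show d.X.presheaf.map (homOfLE _).op b.1 = b.1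
    exact ConcreteCategory.congr_hom (d.X.presheaf.map_id _) b.1
  map_comp i j := by
    refine CommRingCat.hom_ext (RingHom.ext fun b => Subtype.ext ?_)
    show d.X.presheaf.map (homOfLE _).op b.1 = d.X.presheaf.map _ (d.X.presheaf.map _ b.1)
    rw [← CommRingCat.comp_apply, ← d.X.presheaf.map_comp]
    rfl

lemma invMap_val {U V : S.Opens} (i : V ≤ U) (b : d.inv U) : (d.invMap i b).1 = d.resX i b.1 := rfl

def invStr : S.presheaf ⟶ d.invPresheaf where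
  app U := CommRingCat.ofHom ((d.f.app U.unop).hom.codRestrict (d.inv U.unop) fun a => by
    show d.δ₁ U.unop (d.f.app U.unop a) = d.δ₂ U.unop (d.f.app U.unop a)
    rw [d.δ₁_f, d.δ₂_f])
  naturality U V i := by
    refine CommRingCat.hom_ext (RingHom.ext fun a => Subtype.ext ?_)
    exact ConcreteCategory.congr_hom (d.f.naturality i) a

lemma isSheaf_invPresheaf : d.invPresheaf.IsSheaf := by
  rw [TopCat.Presheaf.isSheaf_iff_isSheafUniqueGluing]
  intro ι U sf hsf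
  obtain ⟨b, hb, hbu⟩ := d.X.sheaf.existsUnique_gluing' (fun i => d.f ⁻¹ᵁ U i) (d.f ⁻¹ᵁ iSup U)
    (fun i => homOfLE (d.f.preimage_mono (le_iSup U i))) (by rw [Scheme.Hom.preimage_iSup])
    (fun i => (sf i).1) (fun i j => congrArg Subtype.val (hsf i j))
  have hb' : d.δ₁ (iSup U) b = d.δ₂ (iSup U) b := by
    refine d.R.sheaf.eq_of_locally_eq' (fun i => d.g ⁻¹ᵁ U i) _
      (fun i => homOfLE (d.g.preimage_mono (le_iSup U i))) (by rw [Scheme.Hom.preimage_iSup]) _ _ fun i => ?_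
    show d.resR (le_iSup U i) _ = d.resR (le_iSup U i) _
    rw [← d.δ₁_res, ← d.δ₂_res, show d.resX (le_iSup U i) b = (sf i).1 from hb i]
    exact (sf i).2
  exact ⟨⟨b, hb'⟩, fun i => Subtype.ext (hb i), fun c hc => Subtype.ext (hbu c.1 fun i => congrArg Subtype.val (hc i))⟩

lemma isQC_invPresheaf : IsQC d.invPresheaf d.invStr := by
  intro U hU r
  let inst : Algebra (d.inv U) (d.inv (S.basicOpen r)) := (d.invMap (S.basicOpen_le r)).toAlgebra
  let instX : Algebra Γ(d.X, d.f ⁻¹ᵁ U) Γ(d.X, d.f ⁻¹ᵁ S.basicOpen r) := (d.resX (S.basicOpen_le r)).hom.toAlgebra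
  let instR : Algebra Γ(d.R, d.g ⁻¹ᵁ U) Γ(d.R, d.g ⁻¹ᵁ S.basicOpen r) := (d.resR (S.basicOpen_le r)).hom.toAlgebra
  have hX : IsLocalization.Away (d.f.app U r) Γ(d.X, d.f ⁻¹ᵁ S.basicOpen r) := QCAlg.isQC_pushforward d.f U hU r
  have hR : IsLocalization.Away (d.g.app U r) Γ(d.R, d.g ⁻¹ᵁ S.basicOpen r) := QCAlg.isQC_pushforward d.g U hU r
  let c : d.inv U := (d.invStr.app (op U)).hom r
  show IsLocalization.Away c (d.inv (S.basicOpen r))
  refine IsLocalization.Away.mk c ?_ (fun z => ?_) (fun a b h => ?_)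
  · show IsUnit (d.invMap (S.basicOpen_le r) ((d.invStr.app (op U)).hom r))
    have h := ConcreteCategory.congr_hom (d.invStr.naturality (homOfLE (S.basicOpen_le r)).op) r
    exact Eq.mp (congrArg IsUnit h) ((RingedSpace.isUnit_res_basicOpen _ r).map (d.invStr.app (op (S.basicOpen r))).hom)
  · obtain ⟨n, b, hb⟩ := IsLocalization.Away.surj (d.f.app U r) z.1
    have hd : algebraMap Γ(d.R, d.g ⁻¹ᵁ U) Γ(d.R, d.g ⁻¹ᵁ S.basicOpen r) (d.δ₁ U b) =
        algebraMap _ Γ(d.R, d.g ⁻¹ᵁ S.basicOpen r) (d.δ₂ U b) := by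
      show d.resR _ (d.δ₁ U b) = d.resR _ (d.δ₂ U b)
      rw [← d.δ₁_res, ← d.δ₂_res, show d.resX (S.basicOpen_le r) b = z.1 * d.resX (S.basicOpen_le r) (d.f.app U r) ^ n
        from hb.symm, map_mul, map_mul, map_pow, map_pow, show d.δ₁ _ z.1 = d.δ₂ _ z.1 from z.2,
        d.δ₁_res, d.δ₂_res, d.δ₁_f, d.δ₂_f]
    obtain ⟨m, hm⟩ := IsLocalization.Away.exists_of_eq (d.g.app U r) hd
    refine ⟨n + m, ⟨d.f.app U r ^ m * b, ?_⟩, Subtype.ext ?_⟩
    · show d.δ₁ U _ = d.δ₂ U _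
      rw [map_mul, map_mul, map_pow, map_pow, d.δ₁_f, d.δ₂_f]
      exact hm
    · show z.1 * d.resX _ (d.f.app U r) ^ (n + m) = d.resX _ (d.f.app U r ^ m * b)
      rw [map_mul, map_pow, show d.resX (S.basicOpen_le r) b = z.1 * d.resX (S.basicOpen_le r) (d.f.app U r) ^ n
        from hb.symm, pow_add]
      ring
  · obtain ⟨n, hn⟩ := IsLocalization.Away.exists_of_eq (d.f.app U r)
      (show algebraMap _ Γ(d.X, d.f ⁻¹ᵁ S.basicOpen r) a.1 = algebraMap _ _ b.1 from congrArg Subtype.val h)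
    exact ⟨n, Subtype.ext hn⟩

/-- The quasi-coherent algebra of invariant functions. -/
def invAlg : QCAlg S := ⟨d.invPresheaf, d.isSheaf_invPresheaf, d.invStr, d.isQC_invPresheaf⟩

abbrev Y : Scheme.{u} := d.invAlg.spec

instance : IsIntegralHom d.invAlg.π :=
  RelSpecLib.π_property (A := d.invAlg) @IsIntegralHom fun U hU => by
    rw [IsIntegralHom.SpecMap_iff]
    intro b
    obtain ⟨P, hP, hPb⟩ := d.f.isIntegral_app U hU b.1
    refine ⟨P, hP, Subtype.ext ?_⟩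
    show (d.inv U).subtype (Polynomial.eval₂ _ b P) = 0
    rw [Polynomial.hom_eval₂]
    exact hPb

open Scheme.AffineZariskiSite in
/-- The quotient map. -/
def q : d.X ⟶ d.Y :=
  Scheme.OpenCover.glueMorphismsOfLocallyDirected ((directedCover S).pullback₁ d.f)
    (fun U => (pullbackRestrictIsoRestrict d.f _).hom ≫ (d.f ⁻¹ᵁ U.1).toSpecΓ ≫
      Spec.map (CommRingCat.ofHom (d.inv U.1).subtype) ≫ d.invAlg.ι U.1 U.2) fun {U V} i => by
  have : (pullbackRestrictIsoRestrict d.f U.1).inv ≫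
      Scheme.Cover.trans ((directedCover S).pullback₁ d.f) i ≫
      (pullbackRestrictIsoRestrict d.f V.1).hom = d.X.homOfLE
        (d.f.preimage_mono (toOpens_mono i.1.1)) := by
    rw [← cancel_mono (Scheme.Opens.ι _)]
    simp +instances [Scheme.Cover.trans, Scheme.Cover.locallyDirectedPullbackCover]
  rw [← Iso.inv_comp_eq, reassoc_of% this, ← Scheme.Opens.toSpecΓ_SpecMap_presheaf_map_assoc,
    ← Spec.map_comp_assoc, ← RelSpecLib.map_res_ι d.invAlg V.2 U.2 (toOpens_mono i.1.1), ← Spec.map_comp_assoc]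
  rfl

lemma ι_q (U : S.Opens) (hU : IsAffineOpen U) :
    (d.f ⁻¹ᵁ U).ι ≫ d.q = (d.f ⁻¹ᵁ U).toSpecΓ ≫
      Spec.map (CommRingCat.ofHom (d.inv U).subtype) ≫ d.invAlg.ι U hU := by
  rw [← cancel_epi (pullbackRestrictIsoRestrict d.f U).hom, ← Category.assoc]
  trans ((Scheme.AffineZariskiSite.directedCover S).pullback₁ d.f).f ⟨U, hU⟩ ≫ d.q
  · congr 1; simp; rfl
  delta q
  generalize_proofs _ _ _ _ _ H
  exact Scheme.OpenCover.map_glueMorphismsOfLocallyDirected _ _ H _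

lemma fromSpec_q (U : S.Opens) (hU : IsAffineOpen U) :
    (hU.preimage d.f).fromSpec ≫ d.q = Spec.map (CommRingCat.ofHom (d.inv U).subtype) ≫ d.invAlg.ι U hU := by
  rw [← cancel_epi (hU.preimage d.f).isoSpec.hom, IsAffineOpen.isoSpec_hom, ← Category.assoc,
    IsAffineOpen.toSpecΓ_fromSpec, d.ι_q U hU]

lemma q_π : d.q ≫ d.invAlg.π = d.f := by
  refine Scheme.Cover.hom_ext (d.X.openCoverOfIsOpenCover _ (.comap (iSup_affineOpens_eq_top S) d.f.base.1)) _ _ fun U => ?_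
  show (d.f ⁻¹ᵁ U.1).ι ≫ d.q ≫ d.invAlg.π = (d.f ⁻¹ᵁ U.1).ι ≫ d.f
  rw [reassoc_of% (d.ι_q U.1 U.2), d.invAlg.ι_π, ← Spec.map_comp_assoc]
  change (d.f ⁻¹ᵁ U.1).toSpecΓ ≫ Spec.map (d.f.app U.1) ≫ U.2.fromSpec = _
  simp

instance : IsIntegralHom d.q := by
  have : IsIntegralHom (d.q ≫ d.invAlg.π) := by rw [q_π]; infer_instance
  exact IsIntegralHom.of_comp d.q d.invAlg.π

end Pair

end Groth.Agent.GrpdLib.IntCoeq
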