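import Groth.Agent.GrpdLib.IntCoeq.Quot
import Mathlib.Geometry.RingedSpace.LocallyRingedSpace.HasColimits

/-!
# The spectrum of the invariant functions is the coequalizer in ringed spaces
-/

set_option autoImplicit false
set_option backward.isDefEq.respectTransparency false
set_option backward.isDefEq.respectTransparency.types false

universe u

open CategoryTheory CategoryTheory.Limits AlgebraicGeometry TopologicalSpace Opposite

noncomputable section

namespace Groth.Agent.GrpdLib.IntCoeq.Pair

/-- Schemes to ringed spaces. -/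
abbrev toSh : Scheme.{u} ⥤ SheafedSpace CommRingCat.{u} :=
  Scheme.forgetToLocallyRingedSpace ⋙ LocallyRingedSpace.forgetToSheafedSpace

variable {S : Scheme.{u}} (d : Pair S)

theorem exists_desc {W : SheafedSpace CommRingCat.{u}} (m : d.Y.toTopCat ⟶ W.carrier)
    (ac : W.presheaf ⟶ (d.q.base ≫ m) _* d.X.presheaf)
    (hab : (toSh.map d.p₁).hom ≫
        (⟨d.q.base ≫ m, ac⟩ : (toSh.obj d.X).toPresheafedSpace ⟶ W.toPresheafedSpace) =
      (toSh.map d.p₂).hom ≫
        (⟨d.q.base ≫ m, ac⟩ : (toSh.obj d.X).toPresheafedSpace ⟶ W.toPresheafedSpace)) :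
    ∃ n : (toSh.obj d.Y).toPresheafedSpace ⟶ W.toPresheafedSpace,
      (toSh.map d.q).hom ≫ n = ⟨d.q.base ≫ m, ac⟩ := by
  have hx : ∀ (U : Opens W.carrier) (z : W.presheaf.obj (op U)),
      ∃ x : Γ(d.Y, (Opens.map m).obj U), d.q.app _ x = ac.app (op U) z := by
    intro U z
    refine (d.exact _).2 _ ?_
    have h := ConcreteCategory.congr_hom (PresheafedSpace.congr_app hab (op U)) z
    refine h.trans ?_
    rw [t₂, Scheme.Hom.appLE]
    rfl
  choose x hx using hx
  have inj := fun U : Opens W.carrier => (d.exact ((Opens.map m).obj U)).1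
  let φ : ∀ U : Opens W.carrier, W.presheaf.obj (op U) →+* Γ(d.Y, (Opens.map m).obj U) := fun U =>
    { toFun := x U
      map_one' := inj U (by rw [hx, map_one, map_one])
      map_mul' := fun a b => inj U (by rw [hx, map_mul, map_mul, hx, hx])
      map_zero' := inj U (by rw [hx, map_zero, map_zero])
      map_add' := fun a b => inj U (by rw [hx, map_add, map_add, hx, hx]) }
  let c : W.presheaf ⟶ m _* d.Y.presheaf :=
    { app := fun U => CommRingCat.ofHom (φ U.unop)
      naturality := fun U V i => by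
        refine CommRingCat.hom_ext (RingHom.ext fun z => inj V.unop ?_)
        show d.q.app _ (x V.unop (W.presheaf.map i z)) =
          d.q.app _ (d.Y.presheaf.map ((Opens.map m).map i.unop).op (x U.unop z))
        rw [hx]
        refine (ConcreteCategory.congr_hom (ac.naturality i) z).trans ?_
        refine Eq.trans ?_ (ConcreteCategory.congr_hom
          (d.q.naturality ((Opens.map m).map i.unop).op) (x U.unop z)).symm
        exact congrArg _ (hx U.unop z).symm }
  refine ⟨⟨m, c⟩, PresheafedSpace.ext _ _ rfl ?_⟩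
  simp only [eqToHom_refl, Functor.whiskerRight_id', Category.comp_id]
  exact NatTrans.ext (funext fun U => CommRingCat.hom_ext (RingHom.ext fun z => hx U.unop z))

theorem desc_unique {W : SheafedSpace CommRingCat.{u}}
    (n n' : (toSh.obj d.Y).toPresheafedSpace ⟶ W.toPresheafedSpace)
    (h : (toSh.map d.q).hom ≫ n = (toSh.map d.q).hom ≫ n') : n = n' := by
  obtain ⟨m, c⟩ := n
  obtain ⟨m', c'⟩ := n'
  obtain rfl : m = m' := by
    refine TopCat.hom_ext (ContinuousMap.ext fun y => ?_)
    obtain ⟨x, rfl⟩ := d.surjective_q y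
    exact ConcreteCategory.congr_hom (congrArg PresheafedSpace.Hom.base h) x
  obtain rfl : c = c' := by
    refine NatTrans.ext (funext fun U => CommRingCat.hom_ext (RingHom.ext fun z =>
      (d.exact _).1 ?_))
    have := ConcreteCategory.congr_hom (PresheafedSpace.congr_app h U) z
    simp only [eqToHom_refl, CategoryTheory.Functor.map_id, Category.comp_id] at this
    exact this
  rfl

theorem toSh_w : toSh.map d.p₁ ≫ toSh.map d.q = toSh.map d.p₂ ≫ toSh.map d.q := by
  rw [← Functor.map_comp, ← Functor.map_comp, d.p_q]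

theorem exists_toSh_desc (hfin : ∀ s : S, (d.f ⁻¹' {s}).Finite)
    (heqv : Equivalence fun x x' : d.X => ∃ r : d.R, d.p₁ r = x ∧ d.p₂ r = x')
    {W : SheafedSpace CommRingCat.{u}} (k : toSh.obj d.X ⟶ W)
    (hk : toSh.map d.p₁ ≫ k = toSh.map d.p₂ ≫ k) : ∃ n : toSh.obj d.Y ⟶ W, toSh.map d.q ≫ n = k := by
  obtain ⟨⟨b, ac⟩, hb⟩ : ∃ a : (toSh.obj d.X).toPresheafedSpace ⟶ W.toPresheafedSpace, k.hom = a :=
    ⟨_, rfl⟩
  have hc := congrArg InducedCategory.Hom.hom hk
  change (toSh.map d.p₁).hom ≫ k.hom = (toSh.map d.p₂).hom ≫ k.hom at hc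
  rw [hb] at hc
  obtain ⟨m, rfl⟩ : ∃ m : d.Y.toTopCat ⟶ W.carrier, d.q.base ≫ m = b := by
    have hfq : Topology.IsQuotientMap d.q.base :=
      d.q.isClosedMap.isQuotientMap d.q.continuous d.surjective_q
    have hconst : Function.FactorsThrough (⇑b) (⇑d.q.base) := by
      intro x x' e
      obtain ⟨r, rfl, rfl⟩ := d.exists_rel hfin heqv e
      exact ConcreteCategory.congr_hom (congrArg PresheafedSpace.Hom.base hc) r
    refine ⟨TopCat.ofHom (hfq.lift b.hom hconst), TopCat.hom_ext (ContinuousMap.ext fun y => ?_)⟩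
    exact ContinuousMap.congr_fun (hfq.lift_comp b.hom hconst) y
  obtain ⟨n, hn⟩ := d.exists_desc m ac hc
  exact ⟨InducedCategory.homMk n, InducedCategory.hom_ext (hn.trans hb.symm)⟩

theorem isColimit (hfin : ∀ s : S, (d.f ⁻¹' {s}).Finite)
    (heqv : Equivalence fun x x' : d.X => ∃ r : d.R, d.p₁ r = x ∧ d.p₂ r = x') :
    Nonempty (IsColimit (Cofork.ofπ (toSh.map d.q) d.toSh_w)) :=
  ⟨Cofork.IsColimit.mk _ (fun s => (d.exists_toSh_desc hfin heqv s.π s.condition).choose)
    (fun s => (d.exists_toSh_desc hfin heqv s.π s.condition).choose_spec)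
    (fun s n hn => InducedCategory.hom_ext (d.desc_unique _ _ (congrArg InducedCategory.Hom.hom
      (hn.trans (d.exists_toSh_desc hfin heqv s.π s.condition).choose_spec.symm))))⟩

end Groth.Agent.GrpdLib.IntCoeq.Pair
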