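import Mathlib.RingTheory.Etale.QuasiFinite
import Mathlib.RingTheory.Ideal.GoingUp
import Mathlib.RingTheory.Flat.Basic
import Mathlib.RingTheory.Smooth.Flat

/-!
# Invariant functions separate the classes of an integral equivalence

The argument avoids henselization: idempotents exist on an étale neighbourhood of the point of the base.
-/

set_option autoImplicit false

universe u

open TensorProduct

namespace Groth.Agent.GrpdLib.IntCoeq

/-- Two primes with the same restriction to a base ring are the kernels of two maps to one field agreeing on it. -/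
theorem exists_field_pair {T B A' : Type u} [CommRing T] [CommRing B] [CommRing A'] [Algebra T B] [Algebra T A']
    (Q₁ : Ideal B) [Q₁.IsPrime] (Q₂ : Ideal A') [Q₂.IsPrime]
    (h : Q₁.comap (algebraMap T B) = Q₂.comap (algebraMap T A')) :
    ∃ (K : Type u) (_ : Field K) (f₁ : B →+* K) (f₂ : A' →+* K),
      RingHom.ker f₁ = Q₁ ∧ RingHom.ker f₂ = Q₂ ∧ f₁.comp (algebraMap T B) = f₂.comp (algebraMap T A') := by
  let p := Q₁.comap (algebraMap T B)
  have : p.IsPrime := inferInstance
  let φ₁ : p.ResidueField →+* Q₁.ResidueField := Ideal.ResidueField.map p Q₁ (algebraMap T B) rfl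
  let φ₂ : p.ResidueField →+* Q₂.ResidueField := Ideal.ResidueField.map p Q₂ (algebraMap T A') h
  let : Algebra p.ResidueField Q₁.ResidueField := φ₁.toAlgebra
  let : Algebra p.ResidueField Q₂.ResidueField := φ₂.toAlgebra
  obtain ⟨M, hM⟩ := Ideal.exists_maximal (Q₁.ResidueField ⊗[p.ResidueField] Q₂.ResidueField)
  let : Field (_ ⧸ M) := Ideal.Quotient.field M
  let g₁ : Q₁.ResidueField →+* _ ⧸ M := (Ideal.Quotient.mk M).comp Algebra.TensorProduct.includeLeftRingHom
  let g₂ : Q₂.ResidueField →+* _ ⧸ M :=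
    (Ideal.Quotient.mk M).comp (Algebra.TensorProduct.includeRight (R := p.ResidueField)).toRingHom
  refine ⟨_, inferInstance, g₁.comp (algebraMap B Q₁.ResidueField), g₂.comp (algebraMap A' Q₂.ResidueField), ?_, ?_, ?_⟩
  · rw [← RingHom.comap_ker, (RingHom.injective_iff_ker_eq_bot _).1 g₁.injective, ← RingHom.ker_eq_comap_bot,
      Ideal.ker_algebraMap_residueField]
  · rw [← RingHom.comap_ker, (RingHom.injective_iff_ker_eq_bot _).1 g₂.injective, ← RingHom.ker_eq_comap_bot,
      Ideal.ker_algebraMap_residueField]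
  · ext t
    show g₁ (algebraMap B Q₁.ResidueField (algebraMap T B t)) = g₂ (algebraMap A' Q₂.ResidueField (algebraMap T A' t))
    have e₁ : algebraMap B Q₁.ResidueField (algebraMap T B t) = φ₁ (algebraMap T p.ResidueField t) :=
      (Ideal.ResidueField.map_algebraMap p Q₁ (algebraMap T B) rfl t).symm
    have e₂ : algebraMap A' Q₂.ResidueField (algebraMap T A' t) = φ₂ (algebraMap T p.ResidueField t) :=
      (Ideal.ResidueField.map_algebraMap p Q₂ (algebraMap T A') h t).symm
    rw [e₁, e₂]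
    exact congrArg (Ideal.Quotient.mk M) ((Algebra.TensorProduct.includeLeft
      (R := p.ResidueField) (S := p.ResidueField) (A := Q₁.ResidueField) (B := Q₂.ResidueField)).commutes _
      |>.trans ((Algebra.TensorProduct.includeRight (R := p.ResidueField) (A := Q₁.ResidueField)
        (B := Q₂.ResidueField)).commutes _).symm)

variable {A B C : Type u} [CommRing A] [CommRing B] [CommRing C] [Algebra A B] [Algebra A C]
  [Algebra.IsIntegral A B] [Algebra.IsIntegral A C]

/-- Points of one fibre with the same image in the spectrum of the invariants are related. -/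
theorem rel_of_comap_equalizer (u v : B →ₐ[A] C) (x x' : PrimeSpectrum B) {p : Ideal A} [p.IsPrime]
    (hx : x.asIdeal.comap (algebraMap A B) = p) (hx' : x'.asIdeal.comap (algebraMap A B) = p)
    (hfin : {y : PrimeSpectrum B | y.asIdeal.comap (algebraMap A B) = p}.Finite)
    (hrel : Equivalence fun a b : {y : PrimeSpectrum B // y.asIdeal.comap (algebraMap A B) = p} =>
      ∃ z : PrimeSpectrum C, PrimeSpectrum.comap u.toRingHom z = a.1 ∧ PrimeSpectrum.comap v.toRingHom z = b.1)
    (he : x.asIdeal.comap (AlgHom.equalizer u v).val.toRingHom = x'.asIdeal.comap (AlgHom.equalizer u v).val.toRingHom) :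
    ∃ z : PrimeSpectrum C, PrimeSpectrum.comap u.toRingHom z = x ∧ PrimeSpectrum.comap v.toRingHom z = x' := by
  classical
  let Fib := {y : PrimeSpectrum B // y.asIdeal.comap (algebraMap A B) = p}
  have : Finite Fib := hfin.to_subtype
  let X₀ : Fib := ⟨x, hx⟩
  let Rl : Fib → Fib → Prop := fun a b =>
    ∃ z : PrimeSpectrum C, PrimeSpectrum.comap u.toRingHom z = a.1 ∧ PrimeSpectrum.comap v.toRingHom z = b.1
  -- a finite subalgebra separating the fibre
  have hsep : ∀ a b : Fib, ∃ c : B, a ≠ b → ¬ (c ∈ a.1.asIdeal ↔ c ∈ b.1.asIdeal) := fun a b => by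
    by_cases hab : a = b
    · exact ⟨0, fun h => absurd hab h⟩
    · obtain ⟨c, hc⟩ := not_forall.1 fun h : ∀ c, (c ∈ a.1.asIdeal ↔ c ∈ b.1.asIdeal) =>
        hab (Subtype.ext (PrimeSpectrum.ext (Ideal.ext h)))
      exact ⟨c, fun _ => hc⟩
  choose c hc using hsep
  let B₀ := Algebra.adjoin A (Set.range fun ab : Fib × Fib => c ab.1 ab.2)
  have : Module.Finite A B₀ := Module.Finite.iff_fg.2 (fg_adjoin_of_finite (Set.finite_range _)
    fun b _ => Algebra.IsIntegral.isIntegral b)
  have hres : ∀ a b : Fib, a.1.asIdeal.comap B₀.val.toRingHom = b.1.asIdeal.comap B₀.val.toRingHom → a = b := by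
    intro a b hab
    by_contra hne
    refine hc a b hne ?_
    exact SetLike.ext_iff.1 hab ⟨c a b, Algebra.subset_adjoin ⟨(a, b), rfl⟩⟩
  obtain ⟨A', _, _, _, P, _, hPp, n, e, he', P', _, _, -, heP, hP''⟩ :=
    Algebra.exists_etale_completeOrthogonalIdempotents_forall_liesOver_eq (S := B₀) p
  -- the idempotent of the class of `x`
  let q : Fin n → Ideal B₀ := fun i => (P' i).comap Algebra.TensorProduct.includeRight.toRingHom
  let s : Finset (Fin n) := Finset.univ.filter fun i => ∃ y : Fib, Rl X₀ y ∧ y.1.asIdeal.comap B₀.val.toRingHom = q i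
  let ε₀ : A' ⊗[A] B₀ := ∑ i ∈ s, e i.castSucc
  let ι : A' ⊗[A] B₀ →ₐ[A'] A' ⊗[A] B := Algebra.TensorProduct.map (AlgHom.id A' A') B₀.val
  let eB : A' ⊗[A] B := ι ε₀
  have hmemB : ∀ (Q : Ideal (A' ⊗[A] B)) [Q.IsPrime], Q.comap (algebraMap A' _) = P → ∀ y : Fib,
      Q.comap Algebra.TensorProduct.includeRight.toRingHom = y.1.asIdeal → (eB ∉ Q ↔ Rl X₀ y) := by
    intro Q _ hQ y hy
    have : (Q.comap ι.toRingHom).LiesOver P := ⟨by
      rw [Ideal.under_def, Ideal.comap_comap, ← hQ]
      exact congrArg Q.comap ι.comp_algebraMap.symm⟩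
    obtain ⟨hlast, hi⟩ := hP'' (Q.comap ι.toRingHom) inferInstance inferInstance
    obtain ⟨j, hj⟩ : ∃ j, e j ∉ Q.comap ι.toRingHom := by
      by_contra h
      push Not at h
      exact (Ideal.IsPrime.ne_top inferInstance) ((Ideal.eq_top_iff_one _).2
        (he'.complete ▸ Ideal.sum_mem _ fun j _ => h j))
    obtain ⟨i, rfl⟩ : ∃ i : Fin n, i.castSucc = j := by
      rcases Fin.eq_castSucc_or_eq_last j with ⟨i, rfl⟩ | rfl
      · exact ⟨i, rfl⟩
      · exact absurd hlast hj
    have hqi : q i = y.1.asIdeal.comap B₀.val.toRingHom := by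
      show (P' i).comap _ = _
      rw [← hi i hj, ← hy, Ideal.comap_comap, Ideal.comap_comap]
      refine congrArg Q.comap (RingHom.ext fun b => ?_)
      exact (Algebra.TensorProduct.map_tmul _ _ _ _).trans rfl
    have hmul : e i.castSucc * ε₀ = if i ∈ s then e i.castSucc else 0 := by
      rw [Finset.mul_sum]
      split
      · next hs =>
        rw [Finset.sum_eq_single i (fun k _ hk => he'.ortho (fun h => hk (Fin.castSucc_injective _ h).symm))
          (fun h => absurd hs h)]
        exact he'.idem _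
      · next hs => exact Finset.sum_eq_zero fun k hk => he'.ortho fun h => hs (Fin.castSucc_injective _ h ▸ hk)
    constructor
    · intro hne
      by_cases hs : i ∈ s
      · obtain ⟨y', hy', hy'q⟩ := (Finset.mem_filter.1 hs).2
        obtain rfl := hres y' y (hy'q.trans hqi)
        exact hy'
      · rw [if_neg hs] at hmul
        have : e i.castSucc * ε₀ ∈ Q.comap ι.toRingHom := hmul ▸ Submodule.zero_mem _
        exact absurd ((Ideal.IsPrime.mem_or_mem inferInstance this).resolve_left hj) hne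
    · intro hr hmem
      rw [if_pos (Finset.mem_filter.2 ⟨Finset.mem_univ _, y, hr, hqi.symm⟩)] at hmul
      exact hj (hmul ▸ Ideal.mul_mem_left (Q.comap ι.toRingHom) _ hmem)
  have hidem : IsIdempotentElem eB := by
    refine IsIdempotentElem.map ?_ ι
    have := he'.toOrthogonalIdempotents.isIdempotentElem_sum (s := s.map ⟨Fin.castSucc, Fin.castSucc_injective _⟩)
    rw [Finset.sum_map] at this
    exact this
  -- multiply it into the invariants
  let uA := Algebra.TensorProduct.map (AlgHom.id A' A') u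
  let vA := Algebra.TensorProduct.map (AlgHom.id A' A') v
  let d : A' ⊗[A] C := uA eB - vA eB
  have hd : d * d * d = d := by
    have h1 : uA eB * uA eB = uA eB := by rw [← map_mul, hidem.eq]
    have h2 : vA eB * vA eB = vA eB := by rw [← map_mul, hidem.eq]
    simp only [d]
    linear_combination (uA eB - 3 * vA eB + 1) * h1 + (3 * uA eB - vA eB - 1) * h2
  have hdQ : ∀ (Q : Ideal (A' ⊗[A] C)) [Q.IsPrime], Q.comap (algebraMap A' _) = P → d ∈ Q := by
    intro Q _ hQ
    let z : PrimeSpectrum C := ⟨Q.comap Algebra.TensorProduct.includeRight.toRingHom, inferInstance⟩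
    have hzp : z.asIdeal.comap (algebraMap A C) = p := by
      rw [hPp.over, Ideal.under_def, ← hQ, Ideal.comap_comap]
      rw [Ideal.comap_comap]
      exact congrArg Q.comap ((Algebra.TensorProduct.includeRight (R := A) (A := A') (B := C)).comp_algebraMap.trans
        (IsScalarTower.algebraMap_eq A A' (A' ⊗[A] C)))
    have key : ∀ w : B →ₐ[A] C, ∀ hy : (PrimeSpectrum.comap w.toRingHom z).asIdeal.comap (algebraMap A B) = p,
        (Algebra.TensorProduct.map (AlgHom.id A' A') w eB ∉ Q ↔ Rl X₀ ⟨_, hy⟩) := by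
      intro w hy
      refine hmemB (Q.comap (Algebra.TensorProduct.map (AlgHom.id A' A') w).toRingHom) ?_ ⟨_, hy⟩ ?_
      · rw [Ideal.comap_comap]
        exact (congrArg Q.comap (Algebra.TensorProduct.map (AlgHom.id A' A') w).comp_algebraMap).trans hQ
      · show _ = Ideal.comap _ (Ideal.comap _ Q)
        rw [Ideal.comap_comap, Ideal.comap_comap]
        exact congrArg Q.comap (RingHom.ext fun b => (Algebra.TensorProduct.map_tmul _ _ _ _).trans rfl)
    have hy : ∀ w : B →ₐ[A] C, (PrimeSpectrum.comap w.toRingHom z).asIdeal.comap (algebraMap A B) = p := fun w => by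
      show Ideal.comap _ (Ideal.comap _ _) = _
      rw [Ideal.comap_comap]
      exact (congrArg z.asIdeal.comap w.comp_algebraMap).trans hzp
    have hiff : uA eB ∉ Q ↔ vA eB ∉ Q :=
      (key u (hy u)).trans (Iff.trans ⟨fun h => hrel.trans h ⟨z, rfl, rfl⟩,
        fun h => hrel.trans h (hrel.symm ⟨z, rfl, rfl⟩)⟩ (key v (hy v)).symm)
    by_cases h : uA eB ∈ Q
    · exact Ideal.sub_mem _ h (not_not.1 fun hc => hiff.2 hc h)
    · have h1 : ∀ w : A' ⊗[A] C, w * w = w → w ∉ Q → 1 - w ∈ Q := fun w hw hwQ =>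
        (Ideal.IsPrime.mem_or_mem inferInstance (show w * (1 - w) ∈ Q by
          rw [mul_sub, mul_one, hw, sub_self]; exact Submodule.zero_mem _)).resolve_left hwQ
      have : d = (1 - vA eB) - (1 - uA eB) := by simp only [d]; ring
      rw [this]
      exact Ideal.sub_mem _ (h1 _ (by rw [← map_mul, hidem.eq]) (hiff.1 h)) (h1 _ (by rw [← map_mul, hidem.eq]) h)
  obtain ⟨a, ha, had⟩ : ∃ a : A', a ∉ P ∧ algebraMap A' (A' ⊗[A] C) a * d = 0 := by
    by_contra hcon
    push Not at hcon
    let I : Ideal (A' ⊗[A] C) := LinearMap.ker (LinearMap.mul (A' ⊗[A] C) (A' ⊗[A] C) d)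
    obtain ⟨Q, hIQ, hQp, hQ⟩ := Ideal.exists_ideal_over_prime_of_isIntegral P I (fun a ha => by
      by_contra haP
      refine hcon a haP ?_
      rw [mul_comm]
      exact ha)
    have h1 : 1 - d * d ∈ I := by
      show d * (1 - d * d) = 0
      linear_combination -hd
    exact (Ideal.IsPrime.ne_top hQp) ((Ideal.eq_top_iff_one _).2 (by
      have := Ideal.add_mem _ (hIQ h1) (Ideal.mul_mem_left _ d (hdQ Q hQ))
      rwa [sub_add_cancel] at this))
  let β : A' ⊗[A] B := algebraMap A' _ a * eB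
  let E := AlgHom.equalizer u v
  obtain ⟨ε, hε⟩ : ∃ ε : A' ⊗[A] E, Algebra.TensorProduct.map (AlgHom.id A A') E.val ε = β := by
    have hex : Function.Exact E.val.toLinearMap (u.toLinearMap - v.toLinearMap) := fun b =>
      ⟨fun h => ⟨⟨b, sub_eq_zero.1 h⟩, rfl⟩, fun ⟨y, hy⟩ => hy ▸ sub_eq_zero.2 y.2⟩
    refine (Module.Flat.lTensor_exact A' hex β).1 ?_
    have hu : ∀ w : B →ₐ[A] C, LinearMap.lTensor A' w.toLinearMap β =
        algebraMap A' (A' ⊗[A] C) a * Algebra.TensorProduct.map (AlgHom.id A' A') w eB := by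
      intro w
      show Algebra.TensorProduct.map (AlgHom.id A' A') w β = _
      rw [map_mul, AlgHom.commutes]
    rw [LinearMap.lTensor_sub, LinearMap.sub_apply, hu, hu, ← mul_sub]
    exact had
  -- evaluate at the two points
  obtain ⟨K, _, f₁, f₂, hf₁, hf₂, hf⟩ := exists_field_pair (T := A) x.asIdeal P (by rw [hx, hPp.over, Ideal.under_def])
  let : Algebra A K := (f₂.comp (algebraMap A A')).toAlgebra
  let F : A' ⊗[A] B →ₐ[A] K := Algebra.TensorProduct.lift ⟨f₂, fun _ => rfl⟩ ⟨f₁, fun t => RingHom.congr_fun hf t⟩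
    fun _ _ => Commute.all _ _
  let Q : Ideal (A' ⊗[A] B) := RingHom.ker F.toRingHom
  have : Q.IsPrime := RingHom.ker_isPrime _
  have hFl : ∀ a', F.toRingHom (algebraMap A' (A' ⊗[A] B) a') = f₂ a' := fun a' => by
    show F (a' ⊗ₜ[A] 1) = _
    simp [F]
  have hFr : ∀ b, F.toRingHom ((1 : A') ⊗ₜ[A] b) = f₁ b := fun b => by
    show F ((1 : A') ⊗ₜ[A] b) = _
    simp [F]
  have hQP : Q.comap (algebraMap A' _) = P := by
    rw [← hf₂]; ext a'
    show F.toRingHom _ = 0 ↔ f₂ a' = 0
    rw [hFl]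
  have hQx : Q.comap Algebra.TensorProduct.includeRight.toRingHom = x.asIdeal := by
    rw [← hf₁]; ext b
    show F.toRingHom ((1 : A') ⊗ₜ[A] b) = 0 ↔ f₁ b = 0
    rw [hFr]
  have hβQ : β ∉ Q := fun h => (Ideal.IsPrime.mem_or_mem inferInstance h).elim
    (fun h => ha (hQP.le h)) ((hmemB Q hQP X₀ hQx).2 (hrel.refl X₀))
  let κ : A' ⊗[A] E →+* A' ⊗[A] B := (Algebra.TensorProduct.map (AlgHom.id A A') E.val).toRingHom
  let W : Ideal (A' ⊗[A] E) := Q.comap κ
  let : Algebra E (A' ⊗[A] E) := Algebra.TensorProduct.includeRight.toRingHom.toAlgebra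
  let : Algebra E B := E.val.toRingHom.toAlgebra
  obtain ⟨K', _, g₁, g₂, hg₁, hg₂, hg⟩ := exists_field_pair (T := E) x'.asIdeal W (by
    show x'.asIdeal.comap E.val.toRingHom = W.comap Algebra.TensorProduct.includeRight.toRingHom
    rw [← he, ← hQx, Ideal.comap_comap, Ideal.comap_comap]
    exact congrArg Q.comap (RingHom.ext fun b => (Algebra.TensorProduct.map_tmul (AlgHom.id A A') E.val 1 b).symm))
  let al : A' →+* K' := g₂.comp (algebraMap A' (A' ⊗[A] E))
  let : Algebra A K' := (al.comp (algebraMap A A')).toAlgebra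
  have hgA : ∀ t : A, g₁ (algebraMap A B t) = al (algebraMap A A' t) := fun t => by
    have := RingHom.congr_fun hg (algebraMap A E t)
    refine this.trans ?_
    show g₂ (Algebra.TensorProduct.includeRight (algebraMap A E t)) = g₂ (algebraMap A' _ (algebraMap A A' t))
    rw [AlgHom.commutes, ← IsScalarTower.algebraMap_apply]
  let G : A' ⊗[A] B →ₐ[A] K' := Algebra.TensorProduct.lift ⟨al, fun _ => rfl⟩ ⟨g₁, hgA⟩ fun _ _ => Commute.all _ _
  let Q' : Ideal (A' ⊗[A] B) := RingHom.ker G.toRingHom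
  have : Q'.IsPrime := RingHom.ker_isPrime _
  have hGκ : G.toRingHom.comp κ = g₂ := by
    refine RingHom.ext fun t => ?_
    induction t with
    | zero => simp
    | add t t' h h' => simp only [map_add, h, h']
    | tmul a' b =>
      show G ((Algebra.TensorProduct.map (AlgHom.id A A') E.val) (a' ⊗ₜ[A] b)) = g₂ (a' ⊗ₜ[A] b)
      rw [Algebra.TensorProduct.map_tmul]
      have : g₂ (a' ⊗ₜ[A] b) = g₂ (algebraMap A' _ a') * g₂ (algebraMap E _ b) := by
        rw [← map_mul]
        refine congrArg g₂ ?_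
        show _ = (a' ⊗ₜ[A] (1 : E)) * ((1 : A') ⊗ₜ[A] b)
        simp
      rw [this]
      refine Eq.trans (b := al a' * g₁ (E.val b)) (by simp [G]) ?_
      exact congrArg (al a' * ·) (RingHom.congr_fun hg b)
  have hεW : ε ∉ W := fun h => hβQ (hε ▸ h)
  have hβQ' : β ∉ Q' := by
    intro h
    rw [← hε] at h
    refine hεW ?_
    rw [← hg₂]
    exact (RingHom.congr_fun hGκ ε).symm.trans h
  have hQ'P : Q'.comap (algebraMap A' _) = P := by
    have hW : W.comap (algebraMap A' (A' ⊗[A] E)) = P := by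
      rw [← hQP, Ideal.comap_comap]
      exact congrArg Q.comap (RingHom.ext fun a' => (Algebra.TensorProduct.map_tmul _ _ _ _).trans (by simp))
    rw [← hW, ← hg₂]; ext a'
    show G (a' ⊗ₜ[A] (1 : B)) = 0 ↔ g₂ (algebraMap A' _ a') = 0
    simp [G, al]
  have hQ'x : Q'.comap Algebra.TensorProduct.includeRight.toRingHom = x'.asIdeal := by
    rw [← hg₁]; ext b
    show G ((1 : A') ⊗ₜ[A] b) = 0 ↔ g₁ b = 0
    simp [G]
  obtain ⟨z, hz₁, hz₂⟩ := (hmemB Q' hQ'P ⟨x', hx'⟩ hQ'x).1 fun h => hβQ' (Ideal.mul_mem_left _ _ h)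
  exact ⟨z, hz₁, hz₂⟩

end Groth.Agent.GrpdLib.IntCoeq
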