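import Groth.Agent.GrpdLib.IntCoeq.Alg
import Groth.Agent.GrpdLib.IntCoeq.Sep

/-!
# The quotient map: points and sections
-/

set_option autoImplicit false
set_option backward.isDefEq.respectTransparency false
set_option backward.isDefEq.respectTransparency.types false

universe u

open CategoryTheory CategoryTheory.Limits AlgebraicGeometry TopologicalSpace Opposite

noncomputable section

namespace Groth.Agent.GrpdLib.IntCoeq.Pair

open RelSpec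

variable {S : Scheme.{u}} (d : Pair S)

instance isIso_gammaAff (U : S.Opens) (hU : IsAffineOpen U) : IsIso (d.invAlg.gammaAff U hU) := by
  have h := RelSpecLib.ι_eq d.invAlg U hU
  have : IsOpenImmersion (Spec.map (d.invAlg.gammaAff U hU) ≫ (hU.preimage d.invAlg.π).fromSpec) := h ▸ inferInstance
  have : IsOpenImmersion (Spec.map (d.invAlg.gammaAff U hU)) :=
    IsOpenImmersion.of_comp _ (hU.preimage d.invAlg.π).fromSpec
  have : IsIso (Spec.map (d.invAlg.gammaAff U hU)) := by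
    have : Surjective (Spec.map (d.invAlg.gammaAff U hU)) := ⟨fun z => by
      have hz : (hU.preimage d.invAlg.π).fromSpec z ∈ d.invAlg.π ⁻¹ᵁ U :=
        (hU.preimage d.invAlg.π).opensRange_fromSpec.le ⟨z, rfl⟩
      replace hz := (d.invAlg.π_preimage U hU).le hz
      obtain ⟨w, hw⟩ := hz
      rw [h, Scheme.Hom.comp_apply] at hw
      exact ⟨w, (hU.preimage d.invAlg.π).fromSpec.isOpenEmbedding.injective hw⟩⟩
    exact (isIso_iff_isOpenImmersion_and_surjective _).2 ⟨‹_›, ‹_›⟩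
  have : IsIso (Scheme.Spec.map (d.invAlg.gammaAff U hU).op) := ‹IsIso (Spec.map (d.invAlg.gammaAff U hU))›
  have := isIso_of_reflects_iso (d.invAlg.gammaAff U hU).op Scheme.Spec
  exact isIso_of_op _

lemma preimage_π (U : S.Opens) : d.q ⁻¹ᵁ d.invAlg.π ⁻¹ᵁ U = d.f ⁻¹ᵁ U := by
  rw [← Scheme.Hom.comp_preimage, d.q_π]

lemma q_appLE (U : S.Opens) (hU : IsAffineOpen U) :
    d.q.appLE (d.invAlg.π ⁻¹ᵁ U) (d.f ⁻¹ᵁ U) (d.preimage_π U).ge =
      d.invAlg.gammaAff U hU ≫ CommRingCat.ofHom (d.inv U).subtype := by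
  apply Spec.map_injective
  rw [← cancel_mono (hU.preimage d.invAlg.π).fromSpec,
    IsAffineOpen.SpecMap_appLE_fromSpec d.q (hU.preimage d.invAlg.π) (hU.preimage d.f), d.fromSpec_q U hU,
    RelSpecLib.ι_eq d.invAlg U hU, Spec.map_comp, Category.assoc]

lemma integral_subtype (U : S.Opens) (hU : IsAffineOpen U) : (d.inv U).subtype.IsIntegral := by
  intro b
  obtain ⟨P, hP, hPb⟩ := d.f.isIntegral_app U hU b
  refine ⟨P.map (d.invStr.app (op U)).hom, hP.map _, ?_⟩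
  rw [Polynomial.eval₂_map]
  exact hPb

lemma surjective_q : Function.Surjective d.q := fun y => by
  obtain ⟨_, ⟨U, hU, rfl⟩, hyU, -⟩ :=
    S.isBasis_affineOpens.exists_subset_of_mem_open (Set.mem_univ (d.invAlg.π y)) isOpen_univ
  obtain ⟨e, rfl⟩ := RelSpecLib.exists_ι_apply_eq d.invAlg y U hU hyU
  let : Algebra (d.inv U) Γ(d.X, d.f ⁻¹ᵁ U) := (d.inv U).subtype.toAlgebra
  have : Algebra.IsIntegral (d.inv U) Γ(d.X, d.f ⁻¹ᵁ U) := ⟨d.integral_subtype U hU⟩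
  have hker : RingHom.ker (algebraMap (d.inv U) Γ(d.X, d.f ⁻¹ᵁ U)) ≤ e.asIdeal := fun a ha => by
    have : a = 0 := Subtype.ext ha
    rw [this]; exact Submodule.zero_mem _
  obtain ⟨Q, -, hQp, hQ⟩ := Ideal.exists_ideal_over_prime_of_isIntegral (R := d.inv U)
    (S := Γ(d.X, d.f ⁻¹ᵁ U)) e.asIdeal ⊥ (by rw [← RingHom.ker_eq_comap_bot]; exact hker)
  let w : Spec Γ(d.X, d.f ⁻¹ᵁ U) := (⟨Q, hQp⟩ : PrimeSpectrum _)
  refine ⟨(hU.preimage d.f).fromSpec w, ?_⟩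
  rw [← Scheme.Hom.comp_apply, d.fromSpec_q U hU, Scheme.Hom.comp_apply]
  exact congrArg (d.invAlg.ι U hU) (PrimeSpectrum.ext hQ)

lemma fromSpec_p₁ (U : S.Opens) (hU : IsAffineOpen U) :
    (hU.preimage d.g).fromSpec ≫ d.p₁ = Spec.map (d.δ₁ U) ≫ (hU.preimage d.f).fromSpec :=
  (IsAffineOpen.SpecMap_appLE_fromSpec d.p₁ (hU.preimage d.f) (hU.preimage d.g) (d.le₁ U)).symm

lemma fromSpec_p₂ (U : S.Opens) (hU : IsAffineOpen U) :
    (hU.preimage d.g).fromSpec ≫ d.p₂ = Spec.map (d.δ₂ U) ≫ (hU.preimage d.f).fromSpec :=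
  (IsAffineOpen.SpecMap_appLE_fromSpec d.p₂ (hU.preimage d.f) (hU.preimage d.g) (d.le₂ U)).symm

lemma p_q : d.p₁ ≫ d.q = d.p₂ ≫ d.q := by
  let 𝒰 : d.R.OpenCover := Scheme.Cover.mkOfCovers {U : S.Opens // IsAffineOpen U} _
    (fun U => (U.2.preimage d.g).fromSpec) (fun r => by
      obtain ⟨_, ⟨U, hU, rfl⟩, hU', -⟩ :=
        S.isBasis_affineOpens.exists_subset_of_mem_open (Set.mem_univ (d.g r)) isOpen_univ
      obtain ⟨z, hz⟩ := (hU.preimage d.g).opensRange_fromSpec.ge hU'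
      exact ⟨⟨U, hU⟩, z, hz⟩)
  refine Scheme.Cover.hom_ext 𝒰 _ _ fun ⟨U, hU⟩ => ?_
  show (hU.preimage d.g).fromSpec ≫ d.p₁ ≫ d.q = (hU.preimage d.g).fromSpec ≫ d.p₂ ≫ d.q
  rw [reassoc_of% (d.fromSpec_p₁ U hU), reassoc_of% (d.fromSpec_p₂ U hU), d.fromSpec_q U hU,
    ← Spec.map_comp_assoc, ← Spec.map_comp_assoc]
  congr 2
  exact CommRingCat.hom_ext (RingHom.ext fun b => b.2)

/-- Two points with the same image are related. -/
lemma exists_rel (hfin : ∀ s : S, (d.f ⁻¹' {s}).Finite)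
    (heqv : Equivalence fun x x' : d.X => ∃ r : d.R, d.p₁ r = x ∧ d.p₂ r = x')
    {x x' : d.X} (h : d.q x = d.q x') : ∃ r : d.R, d.p₁ r = x ∧ d.p₂ r = x' := by
  obtain ⟨_, ⟨U, hU, rfl⟩, hxU, -⟩ :=
    S.isBasis_affineOpens.exists_subset_of_mem_open (Set.mem_univ (d.f x)) isOpen_univ
  have hπ : ∀ z, d.f z = d.invAlg.π (d.q z) := fun z => by rw [← Scheme.Hom.comp_apply, d.q_π]
  have hfx : d.f x' = d.f x := by rw [hπ, hπ, h]
  obtain ⟨w, rfl⟩ := (hU.preimage d.f).opensRange_fromSpec.ge (show x ∈ d.f ⁻¹ᵁ U from hxU)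
  obtain ⟨w', rfl⟩ := (hU.preimage d.f).opensRange_fromSpec.ge
    (show x' ∈ d.f ⁻¹ᵁ U from show d.f x' ∈ U from hfx.symm ▸ hxU)
  let : Algebra Γ(S, U) Γ(d.X, d.f ⁻¹ᵁ U) := (d.f.app U).hom.toAlgebra
  let : Algebra Γ(S, U) Γ(d.R, d.g ⁻¹ᵁ U) := (d.g.app U).hom.toAlgebra
  have : Algebra.IsIntegral Γ(S, U) Γ(d.X, d.f ⁻¹ᵁ U) := ⟨d.f.isIntegral_app U hU⟩
  have : Algebra.IsIntegral Γ(S, U) Γ(d.R, d.g ⁻¹ᵁ U) := ⟨d.g.isIntegral_app U hU⟩
  let u : Γ(d.X, d.f ⁻¹ᵁ U) →ₐ[Γ(S, U)] Γ(d.R, d.g ⁻¹ᵁ U) := ⟨(d.δ₁ U).hom, d.δ₁_f U⟩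
  let v : Γ(d.X, d.f ⁻¹ᵁ U) →ₐ[Γ(S, U)] Γ(d.R, d.g ⁻¹ᵁ U) := ⟨(d.δ₂ U).hom, d.δ₂_f U⟩
  have hf : ∀ z : Spec Γ(d.X, d.f ⁻¹ᵁ U), d.f ((hU.preimage d.f).fromSpec z) =
      hU.fromSpec (PrimeSpectrum.comap (d.f.app U).hom z) := fun z => by
    rw [← Scheme.Hom.comp_apply, ← hU.SpecMap_appLE_fromSpec d.f (hU.preimage d.f) le_rfl, Scheme.Hom.appLE_eq_app,
      Scheme.Hom.comp_apply]
    rfl
  have hp : ∀ z : Spec Γ(d.R, d.g ⁻¹ᵁ U),
      d.p₁ ((hU.preimage d.g).fromSpec z) = (hU.preimage d.f).fromSpec (PrimeSpectrum.comap u.toRingHom z) ∧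
      d.p₂ ((hU.preimage d.g).fromSpec z) = (hU.preimage d.f).fromSpec (PrimeSpectrum.comap v.toRingHom z) := fun z => by
    rw [← Scheme.Hom.comp_apply, ← Scheme.Hom.comp_apply, d.fromSpec_p₁ U hU, d.fromSpec_p₂ U hU]
    exact ⟨rfl, rfl⟩
  have hinj := (hU.preimage d.f).fromSpec.isOpenEmbedding.injective
  have hback : ∀ r (y y' : Spec Γ(d.X, d.f ⁻¹ᵁ U)), d.p₁ r = (hU.preimage d.f).fromSpec y →
      d.p₂ r = (hU.preimage d.f).fromSpec y' → ∃ z : PrimeSpectrum Γ(d.R, d.g ⁻¹ᵁ U),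
        PrimeSpectrum.comap u.toRingHom z = y ∧ PrimeSpectrum.comap v.toRingHom z = y' := fun r y y' h1 h2 => by
    have hr : r ∈ d.g ⁻¹ᵁ U := by
      show d.g r ∈ U
      rw [← d.h₁, Scheme.Hom.comp_apply, h1]
      exact (hU.preimage d.f).opensRange_fromSpec.le ⟨y, rfl⟩
    obtain ⟨z, rfl⟩ := (hU.preimage d.g).opensRange_fromSpec.ge hr
    exact ⟨z, hinj ((hp z).1.symm.trans h1), hinj ((hp z).2.symm.trans h2)⟩
  let p : Ideal Γ(S, U) := (PrimeSpectrum.comap (d.f.app U).hom w).asIdeal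
  have hw' : w'.asIdeal.comap (d.f.app U).hom = p := by
    have := hfx
    rw [hf, hf] at this
    exact congrArg PrimeSpectrum.asIdeal (hU.fromSpec.isOpenEmbedding.injective this)
  have he : d.invAlg.ι U hU (Spec.map (CommRingCat.ofHom (d.inv U).subtype) w) =
      d.invAlg.ι U hU (Spec.map (CommRingCat.ofHom (d.inv U).subtype) w') := by
    have e : ∀ z, d.q ((hU.preimage d.f).fromSpec z) =
        d.invAlg.ι U hU (Spec.map (CommRingCat.ofHom (d.inv U).subtype) z) := fun z =>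
      congrArg (fun k : Spec Γ(d.X, d.f ⁻¹ᵁ U) ⟶ d.Y => k z) (d.fromSpec_q U hU)
    exact ((e w).symm.trans h).trans (e w')
  have he' := congrArg PrimeSpectrum.asIdeal ((d.invAlg.ι U hU).isOpenEmbedding.injective he)
  have hF : {y : PrimeSpectrum Γ(d.X, d.f ⁻¹ᵁ U) | y.asIdeal.comap (algebraMap Γ(S, U) _) = p}.Finite := by
    refine ((hfin (d.f ((hU.preimage d.f).fromSpec w))).preimage hinj.injOn).subset fun y hy => ?_
    show d.f _ = d.f _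
    rw [hf, hf]
    exact congrArg hU.fromSpec (PrimeSpectrum.ext hy)
  obtain ⟨z, hz₁, hz₂⟩ := rel_of_comap_equalizer u v w w' (p := p) rfl hw' hF
    { refl := fun y => by
        obtain ⟨r, h1, h2⟩ := heqv.refl ((hU.preimage d.f).fromSpec y.1)
        exact hback r _ _ h1 h2
      symm := fun {y y'} ⟨z, h1, h2⟩ => by
        obtain ⟨r, k1, k2⟩ := heqv.symm ⟨_, (hp z).1, (hp z).2⟩
        exact hback r _ _ (k1.trans (congrArg _ h2)) (k2.trans (congrArg _ h1))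
      trans := fun {y y' y''} ⟨z, h1, h2⟩ ⟨z', h1', h2'⟩ => by
        obtain ⟨r, k1, k2⟩ := heqv.trans ⟨_, (hp z).1, (hp z).2.trans (congrArg _ h2)⟩
          ⟨_, (hp z').1.trans (congrArg _ h1'), (hp z').2⟩
        exact hback r _ _ (k1.trans (congrArg _ h1)) (k2.trans (congrArg _ h2')) }
    (by
      ext b
      exact SetLike.ext_iff.1 he' ⟨b.1, b.2⟩)
  exact ⟨_, (hp z).1.trans (congrArg _ hz₁), (hp z).2.trans (congrArg _ hz₂)⟩

lemma pre_eq (W : d.Y.Opens) : d.p₁ ⁻¹ᵁ d.q ⁻¹ᵁ W = d.p₂ ⁻¹ᵁ d.q ⁻¹ᵁ W :=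
  congrArg (fun k : d.R ⟶ d.Y => k ⁻¹ᵁ W) d.p_q

/-- The second projection on sections. -/
def t₂ (W : d.Y.Opens) : Γ(d.X, d.q ⁻¹ᵁ W) ⟶ Γ(d.R, d.p₁ ⁻¹ᵁ d.q ⁻¹ᵁ W) :=
  d.p₂.appLE _ _ (d.pre_eq W).le

lemma t₂_res {W V : d.Y.Opens} (i : V ≤ W) (b : Γ(d.X, d.q ⁻¹ᵁ W)) :
    d.t₂ V (d.X.presheaf.map (homOfLE (d.q.preimage_mono i)).op b) =
      d.R.presheaf.map (homOfLE (d.p₁.preimage_mono (d.q.preimage_mono i))).op (d.t₂ W b) := by
  rw [← CommRingCat.comp_apply, ← CommRingCat.comp_apply]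
  simp [t₂]

lemma p₁_res {W V : d.Y.Opens} (i : V ≤ W) (b : Γ(d.X, d.q ⁻¹ᵁ W)) :
    d.p₁.app _ (d.X.presheaf.map (homOfLE (d.q.preimage_mono i)).op b) =
      d.R.presheaf.map (homOfLE (d.p₁.preimage_mono (d.q.preimage_mono i))).op (d.p₁.app _ b) := by
  rw [← CommRingCat.comp_apply, ← CommRingCat.comp_apply]
  simp [Scheme.Hom.app_eq_appLE]

lemma q_res {W V : d.Y.Opens} (i : V ≤ W) (y : Γ(d.Y, W)) :
    d.q.app V (d.Y.presheaf.map (homOfLE i).op y) =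
      d.X.presheaf.map (homOfLE (d.q.preimage_mono i)).op (d.q.app W y) :=
  ConcreteCategory.congr_hom (d.q.naturality (homOfLE i).op) y

lemma t₂_q (W : d.Y.Opens) (y : Γ(d.Y, W)) : d.t₂ W (d.q.app W y) = (d.p₁ ≫ d.q).app W y := by
  rw [← CommRingCat.comp_apply, t₂, ← Scheme.Hom.comp_appLE]
  have e : ∀ (k : d.R ⟶ d.Y) (hk : k = d.p₁ ≫ d.q) (hle : d.p₁ ⁻¹ᵁ d.q ⁻¹ᵁ W ≤ k ⁻¹ᵁ W),
      k.appLE W _ hle = (d.p₁ ≫ d.q).app W := by
    rintro k rfl hle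
    exact Scheme.Hom.appLE_eq_app _
  exact ConcreteCategory.congr_hom (e _ d.p_q.symm _) y

/-- The functions on `W` are the invariant functions on its preimage. -/
def Exact (W : d.Y.Opens) : Prop :=
  Function.Injective (d.q.app W) ∧
    ∀ b, d.p₁.app _ b = d.t₂ W b → ∃ y, d.q.app W y = b

lemma exact_chart (U : S.Opens) (hU : IsAffineOpen U) : d.Exact (d.invAlg.π ⁻¹ᵁ U) := by
  let V := d.invAlg.π ⁻¹ᵁ U
  let r : Γ(d.X, d.q ⁻¹ᵁ V) ⟶ Γ(d.X, d.f ⁻¹ᵁ U) := d.X.presheaf.map (eqToHom (d.preimage_π U).symm).op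
  have hr : Function.Bijective r := ConcreteCategory.bijective_of_isIso r
  have key : ∀ y, r (d.q.app V y) = Subtype.val (p := fun b => b ∈ d.inv U) (d.invAlg.gammaAff U hU y) := fun y => by
    refine Eq.trans ?_ (ConcreteCategory.congr_hom (d.q_appLE U hU) y)
    rfl
  have hg : Function.Bijective (d.invAlg.gammaAff U hU) := ConcreteCategory.bijective_of_isIso _
  refine ⟨fun y y' e => hg.1 (Subtype.ext ((key y).symm.trans ((congrArg r e).trans (key y')))), fun b hb => ?_⟩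
  have hmem : r b ∈ d.inv U := by
    have hle : d.g ⁻¹ᵁ U ≤ d.p₁ ⁻¹ᵁ d.q ⁻¹ᵁ V := by
      rw [d.preimage_π]; exact d.le₁ U
    have h := congrArg (d.R.presheaf.map (homOfLE hle).op) hb
    show d.δ₁ U (r b) = d.δ₂ U (r b)
    refine Eq.trans ?_ (h.trans ?_)
    · rw [← CommRingCat.comp_apply, ← CommRingCat.comp_apply]
      refine ConcreteCategory.congr_hom ?_ b
      simp [r, δ₁, Scheme.Hom.app_eq_appLE]
    · rw [← CommRingCat.comp_apply, ← CommRingCat.comp_apply]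
      refine ConcreteCategory.congr_hom ?_ b
      simp [r, δ₂, t₂]
  obtain ⟨y, hy⟩ := hg.2 ⟨r b, hmem⟩
  exact ⟨y, hr.1 ((key y).trans (congrArg Subtype.val hy))⟩

instance : IsIntegralHom d.p₁ := by
  have : IsIntegralHom (d.p₁ ≫ d.f) := by rw [d.h₁]; infer_instance
  exact IsIntegralHom.of_comp d.p₁ d.f

lemma exact_basicOpen {V : d.Y.Opens} (hV : IsAffineOpen V) (hex : d.Exact V) (e : Γ(d.Y, V)) :
    d.Exact (d.Y.basicOpen e) := by
  let D := d.Y.basicOpen e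
  have hD : D ≤ V := d.Y.basicOpen_le e
  let k := d.p₁ ≫ d.q
  let : Algebra Γ(d.Y, V) Γ(d.Y, D) := (d.Y.presheaf.map (homOfLE hD).op).hom.toAlgebra
  let : Algebra Γ(d.X, d.q ⁻¹ᵁ V) Γ(d.X, d.q ⁻¹ᵁ D) :=
    (d.X.presheaf.map (homOfLE (d.q.preimage_mono hD)).op).hom.toAlgebra
  let : Algebra Γ(d.R, d.p₁ ⁻¹ᵁ d.q ⁻¹ᵁ V) Γ(d.R, d.p₁ ⁻¹ᵁ d.q ⁻¹ᵁ D) :=
    (d.R.presheaf.map (homOfLE (d.p₁.preimage_mono (d.q.preimage_mono hD))).op).hom.toAlgebra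
  have : IsLocalization.Away e Γ(d.Y, D) := hV.isLocalization_basicOpen e
  have hX : IsLocalization.Away (d.q.app V e) Γ(d.X, d.q ⁻¹ᵁ D) := QCAlg.isQC_pushforward d.q V hV e
  have hR : IsLocalization.Away (d.p₁.app _ (d.q.app V e)) Γ(d.R, d.p₁ ⁻¹ᵁ d.q ⁻¹ᵁ D) := QCAlg.isQC_pushforward k V hV e
  have hk : ∀ y : Γ(d.Y, V), d.p₁.app _ (d.q.app V y) = k.app V y := fun y => rfl
  have hu : IsUnit (algebraMap Γ(d.Y, V) Γ(d.Y, D) e) := IsLocalization.Away.algebraMap_isUnit e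
  have hres : ∀ y : Γ(d.Y, V), d.q.app D (algebraMap _ Γ(d.Y, D) y) =
      algebraMap _ Γ(d.X, d.q ⁻¹ᵁ D) (d.q.app V y) := fun y => d.q_res hD y
  refine ⟨(injective_iff_map_eq_zero (d.q.app D).hom).2 fun y hy => ?_, fun β hβ => ?_⟩
  · obtain ⟨n, a, ha⟩ := IsLocalization.Away.surj e y
    have h0 : algebraMap _ Γ(d.X, d.q ⁻¹ᵁ D) (d.q.app V a) =
        algebraMap Γ(d.X, d.q ⁻¹ᵁ V) Γ(d.X, d.q ⁻¹ᵁ D) 0 := by
      rw [← hres, ← ha, map_mul, map_zero]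
      exact mul_eq_zero_of_left hy _
    obtain ⟨m, hm⟩ := IsLocalization.Away.exists_of_eq (d.q.app V e) h0
    have h1 : e ^ m * a = 0 := hex.1 (by rw [map_mul, map_pow, hm, mul_zero, map_zero])
    refine (hu.pow (n + m)).mul_left_eq_zero.1 ?_
    rw [pow_add, ← mul_assoc, ha, ← map_pow, ← map_mul, mul_comm, h1, map_zero]
  · obtain ⟨n, b, hb⟩ := IsLocalization.Away.surj (d.q.app V e) β
    have hd : algebraMap _ Γ(d.R, d.p₁ ⁻¹ᵁ d.q ⁻¹ᵁ D) (d.p₁.app _ b) = algebraMap _ _ (d.t₂ V b) := by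
      refine (d.p₁_res hD b).symm.trans (Eq.trans ?_ (d.t₂_res hD b))
      show d.p₁.app _ (algebraMap _ Γ(d.X, d.q ⁻¹ᵁ D) b) = d.t₂ D (algebraMap _ Γ(d.X, d.q ⁻¹ᵁ D) b)
      rw [← hb, map_mul, map_mul, map_pow, map_pow, hβ, ← hres, d.t₂_q]
      rfl
    obtain ⟨m, hm⟩ := IsLocalization.Away.exists_of_eq (d.p₁.app _ (d.q.app V e)) hd
    obtain ⟨y', hy'⟩ := hex.2 (d.q.app V e ^ m * b) (by
      rw [map_mul, map_mul, map_pow, map_pow, d.t₂_q]; exact hm)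
    obtain ⟨c, hc⟩ := hu.pow (n + m)
    refine ⟨algebraMap _ Γ(d.Y, D) y' * (c⁻¹ : Γ(d.Y, D)ˣ), ((hu.pow (n + m)).map (d.q.app D).hom).mul_left_inj.1 ?_⟩
    rw [← map_mul, ← hc, mul_assoc, Units.inv_mul, mul_one, hres, hy', hc, map_mul, map_pow, map_pow, hres, ← hb, pow_add]
    ring

/-- Sections descend along the quotient map. -/
lemma exact (W : d.Y.Opens) : d.Exact W := by
  have hloc : ∀ (W : d.Y.Opens), ∀ y ∈ W, ∃ D : d.Y.Opens, D ≤ W ∧ y ∈ D ∧ d.Exact D := fun W y hy => by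
    obtain ⟨_, ⟨U, hU, rfl⟩, hyU, -⟩ :=
      S.isBasis_affineOpens.exists_subset_of_mem_open (Set.mem_univ (d.invAlg.π y)) isOpen_univ
    obtain ⟨e, he, hye⟩ := (hU.preimage d.invAlg.π).exists_basicOpen_le (⟨y, hy⟩ : W) hyU
    exact ⟨_, he, hye, d.exact_basicOpen (hU.preimage d.invAlg.π) (d.exact_chart U hU) e⟩
  have inj : ∀ W : d.Y.Opens, Function.Injective (d.q.app W) := fun W a b hab => by
    refine d.Y.sheaf.eq_of_locally_eq' (fun D : {D : d.Y.Opens // D ≤ W ∧ d.Exact D} => D.1) W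
      (fun D => homOfLE D.2.1) (fun y hy => ?_) a b fun D => D.2.2.1 ?_
    · obtain ⟨D, hD, hyD, hex⟩ := hloc W y hy
      exact Opens.mem_iSup.2 ⟨⟨D, hD, hex⟩, hyD⟩
    · show d.q.app D.1 (d.Y.presheaf.map (homOfLE D.2.1).op a) = d.q.app D.1 (d.Y.presheaf.map (homOfLE D.2.1).op b)
      rw [d.q_res D.2.1, d.q_res D.2.1, hab]
  refine ⟨inj W, fun b hb => ?_⟩
  let ι := {D : d.Y.Opens // D ≤ W ∧ d.Exact D}
  have hy : ∀ D : ι, ∃ y, d.q.app D.1 y = d.X.presheaf.map (homOfLE (d.q.preimage_mono D.2.1)).op b := fun D =>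
    D.2.2.2 _ (by rw [d.p₁_res D.2.1, hb, d.t₂_res D.2.1])
  choose y hy using hy
  have hcov : W ≤ ⨆ D : ι, D.1 := fun z hz => by
    obtain ⟨D, hD, hzD, hex⟩ := hloc W z hz
    exact Opens.mem_iSup.2 ⟨⟨D, hD, hex⟩, hzD⟩
  obtain ⟨s, hs, -⟩ := d.Y.sheaf.existsUnique_gluing' (fun D : ι => D.1) W (fun D => homOfLE D.2.1) hcov y (fun D D' => by
    refine inj _ ?_
    show d.q.app (D.1 ⊓ D'.1) (d.Y.presheaf.map (homOfLE inf_le_left).op (y D)) =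
      d.q.app (D.1 ⊓ D'.1) (d.Y.presheaf.map (homOfLE inf_le_right).op (y D'))
    rw [d.q_res inf_le_left, d.q_res inf_le_right, hy, hy, ← CommRingCat.comp_apply, ← CommRingCat.comp_apply,
      ← Functor.map_comp, ← Functor.map_comp]
    rfl)
  refine ⟨s, d.X.sheaf.eq_of_locally_eq' (fun D : ι => d.q ⁻¹ᵁ D.1) _
    (fun D => homOfLE (d.q.preimage_mono D.2.1)) ?_ _ _ fun D => ?_⟩
  · rw [← Scheme.Hom.preimage_iSup]
    exact d.q.preimage_mono hcov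
  · show d.X.presheaf.map (homOfLE (d.q.preimage_mono D.2.1)).op (d.q.app W s) = _
    rw [← d.q_res D.2.1, show d.Y.presheaf.map (homOfLE D.2.1).op s = y D from hs D, hy]
    rfl

end Groth.Agent.GrpdLib.IntCoeq.Pair
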